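import Mathlib
import Cfsg.Agent.CharLib.Degree
import Cfsg.Agent.Lib.Helper23.CharDeg

set_option autoImplicit false

namespace Cfsg.Agent.Lib.Helper23

open Cfsg.Agent.CharLib

theorem charDegree_dvd_card {G : Type*} [Group G] [Finite G] (χ : Cfsg.IrrCharacter G) :
    Cfsg.charDegree (χ : G → ℂ) ∣ Nat.card G := by
  obtain ⟨n, ρ, hρ, h⟩ := χ.2
  have h1 := charDegree_cast_irr χ
  rw [← h, Representation.char_one] at h1
  have h2 : Cfsg.charDegree ρ.character = Module.finrank ℂ (Fin n → ℂ) := by exact_mod_cast h1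
  rw [← h, h2]
  exact finrank_dvd_card ρ

/-- a character vanishing off the identity of a subgroup has degree divisible by its order -/
theorem card_dvd_charDegree_of_vanish {G : Type*} [Group G] [Finite G] (H : Subgroup G) (χ : G → ℂ)
    (hχ : Cfsg.IsCharacter G χ) (hvan : ∀ g : G, g ∈ H → g ≠ 1 → χ g = 0) :
    Nat.card H ∣ Cfsg.charDegree χ := by
  classical
  cases nonempty_fintype G
  obtain ⟨k, hk⟩ := classInner_char_nat (isCharacter_restrict hχ H)
    (isCharacter_of_irr (isIrrCharacter_one (G := H)))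
  refine ⟨k, ?_⟩
  have h1 : χ 1 = (Nat.card H : ℂ) * k := by
    rw [← hk, Cfsg.classInner]
    rw [Finset.sum_eq_single (1 : H)]
    · have h0 : (Nat.card H : ℂ) ≠ 0 := by exact_mod_cast Nat.card_pos.ne'
      simp only [map_one, mul_one, OneMemClass.coe_one]
      field_simp
    · intro b _ hb
      rw [hvan b b.2 (fun h => hb (Subtype.ext h))]
      simp
    · intro h
      exact absurd (Finset.mem_univ _) h
  rw [← charDegree_cast hχ] at h1
  exact_mod_cast h1

end Cfsg.Agent.Lib.Helper23
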