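import Mathlib
set_option autoImplicit false

namespace Cfsg.Agent.Lib.Helper23

/-- A finite group is not the union of the conjugates of a proper subgroup. -/
theorem exists_not_mem_conj {G : Type*} [Group G] [Finite G] (H : Subgroup G) (hH : H ≠ ⊤) :
    ∃ x : G, ∀ g : G, g⁻¹ * x * g ∉ H := by
  classical
  have := Fintype.ofFinite G
  by_contra hcon
  push Not at hcon
  have hB := MulAction.sum_card_fixedBy_eq_card_orbits_mul_card_group G (G ⧸ H)
  have horb : Fintype.card (Quotient (MulAction.orbitRel G (G ⧸ H))) = 1 := by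
    rw [Fintype.card_eq_one_iff]
    refine ⟨Quotient.mk'' (QuotientGroup.mk 1), ?_⟩
    intro y
    induction y using Quotient.inductionOn' with
    | h a =>
      apply Quotient.sound'
      exact MulAction.exists_smul_eq G _ _
  rw [horb, one_mul] at hB
  have h1 : ∀ g : G, 1 ≤ Fintype.card (MulAction.fixedBy (G ⧸ H) g) := by
    intro g
    obtain ⟨a, ha⟩ := hcon g
    apply Fintype.card_pos_iff.2
    refine ⟨⟨QuotientGroup.mk a, ?_⟩⟩
    rw [MulAction.mem_fixedBy]
    change (QuotientGroup.mk (g * a) : G ⧸ H) = QuotientGroup.mk a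
    rw [QuotientGroup.eq]
    have := H.inv_mem ha
    simpa [mul_assoc] using this
  have h2 : 2 ≤ Fintype.card (MulAction.fixedBy (G ⧸ H) (1 : G)) := by
    have e : Fintype.card (MulAction.fixedBy (G ⧸ H) (1 : G)) = Fintype.card (G ⧸ H) := by
      apply Fintype.card_congr
      exact (Equiv.subtypeUnivEquiv (fun x => by simp))
    rw [e, ← Nat.card_eq_fintype_card, ← Subgroup.index_eq_card]
    exact Subgroup.one_lt_index_of_ne_top hH
  have h3 : Fintype.card G < ∑ g : G, Fintype.card (MulAction.fixedBy (G ⧸ H) g) := by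
    calc Fintype.card G = ∑ g : G, 1 := by simp
      _ < _ := Finset.sum_lt_sum (fun g _ => h1 g) ⟨1, Finset.mem_univ _, h2⟩
  omega

end Cfsg.Agent.Lib.Helper23
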