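import Cfsg.Agent.Lib.Helper23.Trunc6

/-! The `p`-regular rank of a block as a trace. -/

set_option autoImplicit false
open Cfsg Cfsg.Agent.CharLib Cfsg.Agent.BlockLib Cfsg.Agent.Lib.Helper23 Cfsg.Agent.Lib.Helper23.MinMax
open scoped ComplexConjugate

namespace Cfsg.Agent.Lib.Helper23.Trunc

universe u
variable {G : Type u} [Group G] [Fintype G]

omit [Fintype G] in
theorem trunc_sum {ι : Type*} (p : ℕ) (s : Finset ι) (c : ι → ℂ) (f : ι → G → ℂ) :
    trunc p 1 (∑ i ∈ s, c i • f i) = ∑ i ∈ s, c i • trunc p 1 (f i) := by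
  funext g
  rw [trunc_apply, Finset.sum_apply, Finset.sum_apply]
  split_ifs with h
  · symm
    apply Finset.sum_eq_zero
    intro i _
    rw [Pi.smul_apply, trunc_apply, if_pos h, smul_zero]
  · rw [one_mul]
    apply Finset.sum_congr rfl
    intro i _
    rw [Pi.smul_apply, Pi.smul_apply, trunc_apply, if_neg h, one_mul]

omit [Fintype G] in
theorem trunc_trunc (p : ℕ) (f : G → ℂ) : trunc p 1 (trunc p 1 f) = trunc p 1 f := by
  funext g
  rw [trunc_apply, trunc_apply]
  split_ifs <;> simp

/-- the projection onto the span of the truncated members of `B` -/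
noncomputable def projB (p : ℕ) (B : Set (IrrCharacter G)) [DecidablePred (· ∈ B)] :
    (G → ℂ) →ₗ[ℂ] (G → ℂ) where
  toFun φ := ∑ χ ∈ Finset.univ.filter (· ∈ B), classInner φ (χ : G → ℂ) • trunc p 1 (χ : G → ℂ)
  map_add' φ ψ := by
    rw [← Finset.sum_add_distrib]
    apply Finset.sum_congr rfl
    intro χ _
    rw [classInner_add_left, add_smul]
  map_smul' c φ := by
    rw [Finset.smul_sum]
    apply Finset.sum_congr rfl
    intro χ _
    rw [classInner_smul_left, RingHom.id_apply, mul_smul]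

theorem projB_apply (p : ℕ) (B : Set (IrrCharacter G)) [DecidablePred (· ∈ B)] (φ : G → ℂ) :
    projB p B φ = ∑ χ ∈ Finset.univ.filter (· ∈ B),
      classInner φ (χ : G → ℂ) • trunc p 1 (χ : G → ℂ) := rfl

theorem isProj_projB {p : ℕ} {M : Ideal AlgInt} (hM : IsPModular p M)
    {B : Set (IrrCharacter G)} [DecidablePred (· ∈ B)] (hB : IsPBlock M B) :
    LinearMap.IsProj (Submodule.span ℂ ((fun χ : IrrCharacter G => pRegularPart p (χ : G → ℂ)) '' B))
      (projB p B) := by
  constructor
  · intro φ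
    rw [projB_apply]
    apply Submodule.sum_mem
    intro χ hχ
    apply Submodule.smul_mem
    apply Submodule.subset_span
    exact ⟨χ, (Finset.mem_filter.1 hχ).2, pRegularPart_eq_trunc p _⟩
  · intro w hw
    induction hw using Submodule.span_induction with
    | mem w hw =>
      obtain ⟨ψ, hψ, rfl⟩ := hw
      simp only
      rw [pRegularPart_eq_trunc, projB_apply, ← trunc_sum, ← trunc_eq_sum_block hM hB 1 hψ,
        trunc_trunc]
    | zero => exact map_zero _
    | add x y _ _ hx hy => rw [map_add, hx, hy]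
    | smul c x _ hx => rw [map_smul, hx]

theorem trace_projB (p : ℕ) (B : Set (IrrCharacter G)) [DecidablePred (· ∈ B)] :
    LinearMap.trace ℂ (G → ℂ) (projB p B) = (Nat.card G : ℂ)⁻¹ * ∑ x : G,
      ∑ χ ∈ Finset.univ.filter (· ∈ B), trunc p 1 (χ : G → ℂ) x * conj ((χ : G → ℂ) x) := by
  classical
  rw [LinearMap.trace_eq_matrix_trace ℂ (Pi.basisFun ℂ G), LinearMap.toMatrix_eq_toMatrix',
    Matrix.trace, Finset.mul_sum]
  apply Finset.sum_congr rfl
  intro x _
  rw [Matrix.diag_apply, LinearMap.toMatrix'_apply, projB_apply, Finset.sum_apply, Finset.mul_sum]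
  apply Finset.sum_congr rfl
  intro χ _
  rw [Pi.smul_apply, smul_eq_mul, classInner, Finset.sum_eq_single x]
  · simp; ring
  · intro g _ hg
    simp [hg]
  · intro h; exact absurd (Finset.mem_univ _) h

/-- **rank = trace** -/
theorem card_mul_blockRank {p : ℕ} {M : Ideal AlgInt} (hM : IsPModular p M)
    {B : Set (IrrCharacter G)} [DecidablePred (· ∈ B)] (hB : IsPBlock M B) :
    (Nat.card G : ℂ) * (blockRank p B : ℂ) = ∑ x : G,
      ∑ χ ∈ Finset.univ.filter (· ∈ B), trunc p 1 (χ : G → ℂ) x * conj ((χ : G → ℂ) x) := by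
  have h1 := (isProj_projB hM hB).trace
  rw [trace_projB] at h1
  have h0 : (Nat.card G : ℂ) ≠ 0 := card_ne_zero_complex
  rw [blockRank, ← h1, mul_inv_cancel_left₀ h0]

end Cfsg.Agent.Lib.Helper23.Trunc
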