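import Mathlib
import Cfsg.Agent.Lib.Helper23.SelfCent3

set_option autoImplicit false

namespace Cfsg.Agent.Lib.Helper23

open Subgroup
open scoped Pointwise

variable {G : Type*} [Group G]

theorem card_sylow_eq_index_normalizer_coe [Finite G] {p : ℕ} [Fact p.Prime] (P : Sylow p G) :
    Nat.card (Sylow p G) = (normalizer ((P : Subgroup G) : Set G)).index :=
  Sylow.card_eq_index_normalizer P

/-- Number of Sylow subgroups of a subgroup `H` containing a Sylow subgroup `P` of `G`. -/
theorem card_sylow_subgroup_eq_relIndex [Finite G] {p : ℕ} [Fact p.Prime] (P : Sylow p G)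
    {H : Subgroup G} (h : (P : Subgroup G) ≤ H) :
    Nat.card (Sylow p H) = (normalizer ((P : Subgroup G) : Set G)).relIndex H := by
  rw [card_sylow_eq_index_normalizer_coe (P.subtype h), Sylow.coe_subtype,
    ← subgroupOf_normalizer_eq h]
  rfl

/-- relative version of `relIndex_sup_normal_eq`. -/
theorem relIndex_sup_eq_of_le [Finite G] {P H A : Subgroup G} (hPH : P ≤ H)
    (hPA : P ≤ normalizer (A : Set G)) :
    H.relIndex (P ⊔ A) = H.relIndex A := by
  have hA : A ≤ P ⊔ A := le_sup_right
  have hn : (A.subgroupOf (P ⊔ A)).Normal := by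
    rw [normal_subgroupOf_iff_le_normalizer hA]
    exact sup_le hPA le_normalizer
  have h1 := relIndex_sup_normal_eq (H.subgroupOf (P ⊔ A)) (A.subgroupOf (P ⊔ A))
  rw [relIndex_subgroupOf hA] at h1
  have h2 : H.subgroupOf (P ⊔ A) ⊔ A.subgroupOf (P ⊔ A) = ⊤ := by
    rw [eq_top_iff]
    have h3 : P.subgroupOf (P ⊔ A) ⊔ A.subgroupOf (P ⊔ A) = ⊤ := by
      rw [← subgroupOf_sup le_sup_left le_sup_right, subgroupOf_self]
    rw [← h3]
    apply sup_le_sup_right
    intro x hx
    exact hPH hx
  rw [h2, relIndex_top_right] at h1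
  exact h1

/-- relative Frattini argument -/
theorem normalizer_le_sup_normalizer_sylow [Finite G] {p : ℕ} [Fact p.Prime] (P : Sylow p G)
    {L : Subgroup G} (h : (P : Subgroup G) ≤ L) :
    normalizer (L : Set G) ≤ L ⊔ normalizer ((P : Subgroup G) : Set G) := by
  intro g hg
  have h' : ((g • P : Sylow p G) : Subgroup G) ≤ L := by
    intro x hx
    rw [Sylow.coe_subgroup_smul, Subgroup.mem_pointwise_smul_iff_inv_smul_mem] at hx
    have h2 := h hx
    have h3 := (mem_normalizer_iff.1 hg _).1 h2
    simpa [MulAut.smul_def, mul_assoc] using h3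
  obtain ⟨l, hl⟩ := MulAction.exists_smul_eq L ((g • P).subtype h') (P.subtype h)
  rw [Sylow.smul_subtype] at hl
  have h4 := Sylow.subtype_injective hl
  have h5 : ((l : G) * g) • P = P := by
    rw [mul_smul]; exact h4
  rw [Sylow.smul_eq_iff_mem_normalizer] at h5
  have : g = (l : G)⁻¹ * ((l : G) * g) := by group
  rw [this]
  exact mul_mem (mem_sup_left (inv_mem l.2)) (mem_sup_right h5)

theorem card_sylow_quotient_eq_index [Finite G] {p : ℕ} [Fact p.Prime] (P : Sylow p G)
    (K : Subgroup G) [K.Normal] :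
    Nat.card (Sylow p (G ⧸ K)) = (normalizer ((P : Subgroup G) : Set G) ⊔ K).index := by
  rw [card_sylow_eq_index_normalizer_coe (P.mapSurjective (QuotientGroup.mk'_surjective K)),
    Sylow.coe_mapSurjective, ← index_comap_of_surjective _ (QuotientGroup.mk'_surjective K),
    comap_normalizer_eq_of_surjective _ (QuotientGroup.mk'_surjective K), comap_map_eq,
    QuotientGroup.ker_mk']
  congr 1
  apply le_antisymm
  · refine (normalizer_le_sup_normalizer_sylow P (le_sup_left : (P : Subgroup G) ≤ (P : Subgroup G) ⊔ K)).trans ?_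
    refine sup_le (sup_le (le_normalizer.trans le_sup_left) le_sup_right) le_sup_left
  · refine sup_le ?_ (le_sup_right.trans le_normalizer)
    intro g hg
    rw [mem_normalizer_iff_map_conj_eq] at hg ⊢
    rw [Subgroup.map_sup, hg]
    congr 1
    exact (mem_normalizer_iff_map_conj_eq.1 (by rw [normalizer_eq_top]; trivial))

/-- `n_p(G) = n_p(G/K) * [K : N_K(P)]`. -/
theorem card_sylow_eq_card_quotient_mul_relIndex [Finite G] {p : ℕ} [Fact p.Prime] (P : Sylow p G)
    (K : Subgroup G) [K.Normal] :
    Nat.card (Sylow p G) =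
      Nat.card (Sylow p (G ⧸ K)) * (normalizer ((P : Subgroup G) : Set G)).relIndex K := by
  rw [card_sylow_quotient_eq_index P K, card_sylow_eq_index_normalizer_coe P,
    ← relIndex_sup_normal_eq, mul_comm]
  exact (relIndex_mul_index le_sup_left).symm

/-- `[K : N_K(P)] = n_p(PK)`. -/
theorem card_sylow_sup_eq_relIndex [Finite G] {p : ℕ} [Fact p.Prime] (P : Sylow p G)
    (K : Subgroup G) [K.Normal] :
    Nat.card (Sylow p ((P : Subgroup G) ⊔ K : Subgroup G)) =
      (normalizer ((P : Subgroup G) : Set G)).relIndex K := by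
  rw [card_sylow_subgroup_eq_relIndex P le_sup_left]
  apply relIndex_sup_eq_of_le le_normalizer
  rw [normalizer_eq_top]; exact le_top

theorem card_sylow_quotient_pgroup [Finite G] {p : ℕ} [Fact p.Prime]
    (Z : Subgroup G) [Z.Normal] (hZ : IsPGroup p Z) :
    Nat.card (Sylow p (G ⧸ Z)) = Nat.card (Sylow p G) := by
  obtain ⟨P⟩ : Nonempty (Sylow p G) := inferInstance
  rw [card_sylow_quotient_eq_index P Z, card_sylow_eq_index_normalizer_coe P]
  congr 1
  exact sup_eq_left.2 ((hZ.le_sylow_of_normal P).trans le_normalizer)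

/-- number of Sylow subgroups of a normal subgroup. -/
theorem card_sylow_normal_eq_relIndex [Finite G] {p : ℕ} [Fact p.Prime] (P : Sylow p G)
    (K : Subgroup G) [K.Normal] :
    Nat.card (Sylow p K) = (normalizer (((P : Subgroup G) ⊓ K : Subgroup G) : Set G)).relIndex K := by
  have h1 : IsPGroup p ((P : Subgroup G).subgroupOf K) :=
    P.2.comap_of_injective K.subtype K.subtype_injective
  have h2 : ¬ p ∣ ((P : Subgroup G).subgroupOf K).index := by
    intro h
    apply P.not_dvd_index
    refine h.trans ?_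
    change (P : Subgroup G).relIndex K ∣ _
    rw [← relIndex_sup_normal_eq]
    exact relIndex_dvd_index_of_le le_sup_left
  rw [card_sylow_eq_index_normalizer_coe (h1.toSylow h2), IsPGroup.toSylow_coe,
    ← inf_subgroupOf_right, ← subgroupOf_normalizer_eq inf_le_right]
  rfl

end Cfsg.Agent.Lib.Helper23
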